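import Groth.Agent.Ega2Proj.TwistPow

/-!
# Twisting sheaves on an arbitrary Proj: local bases
-/

set_option autoImplicit false
set_option linter.style.haveILetI false

universe u

open CategoryTheory AlgebraicGeometry Opposite TopologicalSpace DirectSum
open Groth.PicAux Groth.Ega2Proj

namespace Groth.Misc1.TwistCover

variable {R A : Type u} [CommRing R] [CommRing A] [Algebra R A] {𝒜 : ℕ → Submodule R A}
  [GradedAlgebra 𝒜]

/-- `O(n)` is invertible when the degree-one opens cover. -/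
theorem isInvertible_twist_of_cover
    (hcov : ⨆ f : 𝒜 1, Proj.basicOpen 𝒜 (f : A) = ⊤) (n : ℤ) :
    PicF.IsInvertible (Twist.twist 𝒜 n) :=
  isInvertible_of_gen_cover _ hcov
    (fun f => pwSec (N := n) f.2 n (by simp) fun _ hx => hx) fun f => gen_pwSec _ _ _ _

/-- `O(m) ⊗ O(n) ≅ O(m + n)` when the degree-one opens cover. -/
theorem nonempty_tensor_iso_of_cover
    (hcov : ⨆ f : 𝒜 1, Proj.basicOpen 𝒜 (f : A) = ⊤) (m n : ℤ) :
    Nonempty (CohB1.tensorMod (Twist.twist 𝒜 m) (Twist.twist 𝒜 n) ≅ Twist.twist 𝒜 (m + n)) := by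
  obtain ⟨e, -⟩ := exists_iso_of_gen hcov
    (fun f => pwSec (N := m + n) f.2 (m + n) (by simp) fun _ hx => hx)
    (fun f => gen_pwSec _ _ _ _)
    (fun f => tmulSec (pwSec (N := m) f.2 m (by simp) fun _ hx => hx)
      (pwSec (N := n) f.2 n (by simp) fun _ hx => hx))
    (fun f => (gen_pwSec _ _ _ _).tensor (gen_pwSec _ _ _ _)) fun f g r hr => by
      have hWf : ∀ x : ProjectiveSpectrum 𝒜, x ∈ Proj.basicOpen 𝒜 (f : A) ⊓ Proj.basicOpen 𝒜 (g : A) →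
          (f : A) ∉ x.asHomogeneousIdeal := fun _ hx => hx.1
      have hWg : ∀ x : ProjectiveSpectrum 𝒜, x ∈ Proj.basicOpen 𝒜 (f : A) ⊓ Proj.basicOpen 𝒜 (g : A) →
          (g : A) ∉ x.asHomogeneousIdeal := fun _ hx => hx.2
      replace hr : pwSec (N := m + n) f.2 (m + n) (by simp) hWf =
          r • pwSec (N := m + n) g.2 (m + n) (by simp) hWg := hr
      rw [res_tmulSec, res_tmulSec]
      change tmulSec (pwSec (N := m) f.2 m (by simp) hWf) (pwSec (N := n) f.2 n (by simp) hWf) =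
        r • tmulSec (pwSec (N := m) g.2 m (by simp) hWg) (pwSec (N := n) g.2 n (by simp) hWg)
      obtain ⟨a, ha⟩ := exists_coeff_pwSec f.2 g.2 m (U := Proj.basicOpen 𝒜 (f : A) ⊓ Proj.basicOpen 𝒜 (g : A))
        hWf hWg
      obtain ⟨b, hb⟩ := exists_coeff_pwSec f.2 g.2 n (U := Proj.basicOpen 𝒜 (f : A) ⊓ Proj.basicOpen 𝒜 (g : A))
        hWf hWg
      rw [ha, hb, tmulSec_smul_left, tmulSec_smul_right, ← mul_smul]
      congr 1
      refine fun_ext fun x hx => ?_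
      change ((a.1 ⟨x, hx⟩) * (b.1 ⟨x, hx⟩)).val = _
      rw [HomogeneousLocalization.val_mul, coeff_val _ _ _ _ _ _ ha, coeff_val _ _ _ _ _ _ hb,
        coeff_val _ _ _ _ _ _ hr, ← Units.val_mul]
      congr 1
      rw [neg_add, zpow_add, zpow_add]
      simp only [mul_assoc, mul_left_comm]
  exact ⟨e.symm⟩

/-- `O(n) ≅ O(1) ^ ⊗ n` when the degree-one opens cover. -/
theorem nonempty_pow_iso_of_cover
    (hcov : ⨆ f : 𝒜 1, Proj.basicOpen 𝒜 (f : A) = ⊤) (n : ℕ) :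
    Nonempty (Twist.twist 𝒜 (n : ℤ) ≅ CohB1.tensorPow (Twist.twist 𝒜 1) n) := by
  obtain ⟨e, -⟩ := exists_iso_of_gen hcov
    (fun f => pwSec (N := (n : ℤ)) f.2 n (by simp) fun _ hx => hx)
    (fun f => gen_pwSec _ _ _ _)
    (fun f => powSec (pwSec (N := 1) f.2 1 (by simp) fun _ hx => hx) n)
    (fun f => (gen_pwSec _ _ _ _).pow n) fun f g r hr => by
      have hWf : ∀ x : ProjectiveSpectrum 𝒜, x ∈ Proj.basicOpen 𝒜 (f : A) ⊓ Proj.basicOpen 𝒜 (g : A) →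
          (f : A) ∉ x.asHomogeneousIdeal := fun _ hx => hx.1
      have hWg : ∀ x : ProjectiveSpectrum 𝒜, x ∈ Proj.basicOpen 𝒜 (f : A) ⊓ Proj.basicOpen 𝒜 (g : A) →
          (g : A) ∉ x.asHomogeneousIdeal := fun _ hx => hx.2
      replace hr : pwSec (N := (n : ℤ)) f.2 n (by simp) hWf =
          r • pwSec (N := (n : ℤ)) g.2 n (by simp) hWg := hr
      rw [res_powSec, res_powSec]
      change powSec (pwSec (N := 1) f.2 1 (by simp) hWf) n =
        r • powSec (pwSec (N := 1) g.2 1 (by simp) hWg) n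
      obtain ⟨a, ha⟩ := exists_coeff_pwSec f.2 g.2 1 (U := Proj.basicOpen 𝒜 (f : A) ⊓ Proj.basicOpen 𝒜 (g : A))
        hWf hWg
      rw [ha, powSec_smul]
      congr 1
      refine fun_ext fun x hx => ?_
      change ((a.1 ⟨x, hx⟩) ^ n).val = _
      rw [HomogeneousLocalization.val_pow, coeff_val _ _ _ _ _ _ ha, coeff_val _ _ _ _ _ _ hr,
        ← Units.val_pow_eq_pow_val]
      congr 1
      rw [mul_pow, zpow_one, zpow_neg_one, zpow_natCast, zpow_neg, zpow_natCast, inv_pow]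
  exact ⟨e⟩

/-- On `D₊(f)` the sheaf `O(n deg f)` is trivial. -/
theorem nonempty_restrict_pow {d : ℕ} {f : A} (hf : f ∈ 𝒜 d) (n : ℤ) :
    Nonempty ((Twist.twist 𝒜 (n * d)).restrict (Proj.basicOpen 𝒜 f).ι ≅
      Coh.structureModule ↑(Proj.basicOpen 𝒜 f)) :=
  (nonempty_restrict_iso_iff _).2 ⟨_, gen_pwSec hf n rfl fun _ hx => hx⟩

/-- On `D₊(ab)` the sheaf `O(n d)`, `d = deg a - deg b`, has the basis `(a/b)ⁿ`. -/
theorem exists_gen_mul {d i j : ℕ} {a b : A} (ha : a ∈ 𝒜 i) (hb : b ∈ 𝒜 j) (hij : i = j + d)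
    (n : ℤ) : ∃ s, Gen (Twist.twist 𝒜 (n * d)) (Proj.basicOpen 𝒜 (a * b)) s := by
  have hg : a ^ n.toNat * b ^ (-n).toNat ∈ 𝒜 (n.toNat * i + (-n).toNat * j) :=
    SetLike.mul_mem_graded (pow_mem_deg ha _) (pow_mem_deg hb _)
  have hh : b ^ n.toNat * a ^ (-n).toNat ∈ 𝒜 (n.toNat * j + (-n).toNat * i) :=
    SetLike.mul_mem_graded (pow_mem_deg hb _) (pow_mem_deg ha _)
  have hdeg : ((n.toNat * i + (-n).toNat * j : ℕ) : ℤ) =
      (n.toNat * j + (-n).toNat * i : ℕ) + n * d := by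
    subst hij
    obtain ⟨m, rfl | rfl⟩ := Int.eq_nat_or_neg n <;> simp <;> ring
  have hna : ∀ x : ProjectiveSpectrum 𝒜, x ∈ Proj.basicOpen 𝒜 (a * b) → ∀ p q : ℕ,
      a ^ p * b ^ q ∉ x.asHomogeneousIdeal := fun x hx p q =>
    x.asHomogeneousIdeal.toIdeal.primeCompl.mul_mem
      (notMem_pow x (fun h => hx (Ideal.mul_mem_right _ _ h)) p)
      (notMem_pow x (fun h => hx (Ideal.mul_mem_left _ _ h)) q)
  exact ⟨_, gen_fracGen hg hh hdeg _ (fun x hx => mul_comm (a ^ _) (b ^ _) ▸ hna x hx _ _)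
    fun x hx => hna x hx _ _⟩

/-- Quasi-compact opens are covered by the `D₊` of elements of a single positive degree. -/
theorem exists_degree_cover (Y : (Proj 𝒜).Opens) (hY : IsCompact (Y : Set (Proj 𝒜))) :
    ∃ d : ℕ, 0 < d ∧ ∀ y : Proj 𝒜, y ∈ Y → ∃ f ∈ 𝒜 d, y ∈ Proj.basicOpen 𝒜 f := by
  have h0 : ∀ y : Proj 𝒜, ∃ (d : ℕ) (f : A), 0 < d ∧ f ∈ 𝒜 d ∧ y ∈ Proj.basicOpen 𝒜 f := fun y => by
    have h1 : ¬ (HomogeneousIdeal.irrelevant 𝒜).toIdeal ≤ y.asHomogeneousIdeal.toIdeal :=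
      y.not_irrelevant_le
    rw [HomogeneousIdeal.irrelevant_eq_span, Ideal.span_le, Set.not_subset] at h1
    obtain ⟨f, hf, hfy⟩ := h1
    simp only [Set.mem_iUnion] at hf
    obtain ⟨d, hd, hfd⟩ := hf
    exact ⟨d, f, hd, hfd, hfy⟩
  choose d f hd hf hy using h0
  obtain ⟨t, ht⟩ := hY.elim_finite_subcover (fun y => (Proj.basicOpen 𝒜 (f y) : Set (Proj 𝒜)))
    (fun y => (Proj.basicOpen 𝒜 _).isOpen) fun y _ => Set.mem_iUnion.2 ⟨y, hy y⟩
  refine ⟨∏ y ∈ t, d y, Finset.prod_pos fun y _ => hd y, fun z hz => ?_⟩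
  obtain ⟨y, hyt, hzy⟩ := Set.mem_iUnion₂.1 (ht hz)
  obtain ⟨c, hc⟩ : d y ∣ ∏ y ∈ t, d y := Finset.dvd_prod_of_mem _ hyt
  exact ⟨f y ^ c, hc ▸ mul_comm c (d y) ▸ pow_mem_deg (hf y) c, notMem_pow z hzy c⟩

/-- The non-vanishing locus of a section of `O(N)` near a point with a homogeneous unit fraction of
degree `N`. -/
theorem span_globalOf_eq_top_iff {N i j : ℕ} {a b : A} (ha : a ∈ 𝒜 i) (hb : b ∈ 𝒜 j)
    (hij : i = j + N) (p : ProjectiveSpectrum 𝒜) (hap : a ∉ p.asHomogeneousIdeal)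
    (hbp : b ∉ p.asHomogeneousIdeal) (f : 𝒜 N) :
    (f : A) ∉ p.asHomogeneousIdeal ↔
      Submodule.span (Twist.A0 𝒜 p) {(Twist.globalOf 𝒜 f).1 ⟨p, trivial⟩} = ⊤ := by
  constructor
  · intro hfp
    rw [eq_top_iff]
    rintro ⟨q, hq⟩ -
    obtain ⟨k, l, c, t, ht, hc, htl, hdeg, rfl⟩ := exists_lfrac_of_mem_twistAt hq
    refine Submodule.mem_span_singleton.2 ?_
    rcases hdeg with h | rfl
    · refine ⟨.mk ⟨k, ⟨c, hc⟩, ⟨t * (f : A), (show k = l + N by omega) ▸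
        SetLike.mul_mem_graded htl f.2⟩, p.isPrime.mul_notMem ht hfp⟩, Subtype.ext ?_⟩
      rw [Twist.coe_smul_val, HomogeneousLocalization.val_mk]
      change Localization.mk _ _ * Localization.mk _ _ = Localization.mk _ _
      rw [Localization.mk_mul, Localization.mk_eq_mk_iff, Localization.r_iff_exists]
      exact ⟨1, by simp only [Submonoid.coe_mul, Submonoid.coe_one]; ring⟩
    · refine ⟨0, Subtype.ext ?_⟩
      rw [Twist.coe_smul_val, HomogeneousLocalization.val_zero, zero_mul]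
      exact (Localization.mk_zero _).symm
  · intro h hfp
    have hmem : lfrac 𝒜 p a hbp ∈ Twist.twistAt 𝒜 (N : ℤ) p :=
      Submodule.subset_span ⟨i, j, ⟨a, ha⟩, ⟨b, hb⟩, hbp, by omega, rfl⟩
    obtain ⟨c, hc⟩ := Submodule.mem_span_singleton.1
      (h.ge (Submodule.mem_top (x := (⟨_, hmem⟩ : Twist.twistAt 𝒜 (N : ℤ) p))))
    have hc' := congrArg Subtype.val hc
    rw [Twist.coe_smul_val] at hc'
    have hu : IsUnit (c.val * (((Twist.globalOf 𝒜 f).1 ⟨p, trivial⟩).1 : Twist.Loc 𝒜 p)) :=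
      hc'.symm ▸ lfrac_isUnit 𝒜 p hap hbp
    have hf1 := (IsUnit.mul_iff.1 hu).2
    change IsUnit (Localization.mk (f : A) _) at hf1
    rw [Localization.mk_eq_mk'] at hf1
    exact (IsLocalization.AtPrime.isUnit_mk'_iff _ p.asHomogeneousIdeal.toIdeal _ _).1 hf1 hfp

end Groth.Misc1.TwistCover
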